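import Mathlib
import Cfsg.Agent.Lib.Helper44.FW.Defs

/-!
# Project FW (S3211), package [PHI] (helper77)

A square root `r` of `t₀ = x₀ (n x₀ n⁻¹)` in `C(j) ∩ C(t₀)` outside `L₁L₂` gives the square
root `r x₀` of `j`, different from `n`.
-/

set_option autoImplicit false

namespace Cfsg.Agent.Lib.Helper77.FW

open Cfsg.Agent.Lib.Helper44.FW

universe u

/-- Elements of the join of two elementwise commuting subgroups are products. -/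
theorem fw_mem_sup_of_comm {G : Type u} [Group G] (L₁ L₂ : Subgroup G)
    (hc : ∀ x ∈ L₁, ∀ y ∈ L₂, x * y = y * x) (g : G) (hg : g ∈ L₁ ⊔ L₂) :
    ∃ x ∈ L₁, ∃ y ∈ L₂, g = x * y := by
  let P : Subgroup G :=
    { carrier := {g | ∃ x ∈ L₁, ∃ y ∈ L₂, g = x * y}
      mul_mem' := by
        rintro a b ⟨x, hx, y, hy, rfl⟩ ⟨x', hx', y', hy', rfl⟩
        refine ⟨x * x', L₁.mul_mem hx hx', y * y', L₂.mul_mem hy hy', ?_⟩
        calc x * y * (x' * y') = x * (y * x') * y' := by group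
          _ = x * (x' * y) * y' := by rw [hc x' hx' y hy]
          _ = x * x' * (y * y') := by group
      one_mem' := ⟨1, L₁.one_mem, 1, L₂.one_mem, by simp⟩
      inv_mem' := by
        rintro a ⟨x, hx, y, hy, rfl⟩
        refine ⟨x⁻¹, L₁.inv_mem hx, y⁻¹, L₂.inv_mem hy, ?_⟩
        rw [hc x hx y hy]
        group }
  have h1 : L₁ ≤ P := fun x hx => ⟨x, hx, 1, L₂.one_mem, by simp⟩
  have h2 : L₂ ≤ P := fun y hy => ⟨1, L₁.one_mem, y, hy, by simp⟩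
  exact (sup_le h1 h2) hg

/-- **[PHI]** -/
theorem pkgPhi : PkgPhi.{u} := by
  intro G _ L₁ L₂ j n hcfg hinv x₀ hx₀ hx₀2 r hr hrY hcomm hr2
  obtain ⟨hc, hmeet, hord, hle, hidx, hn, hn2, hswap⟩ := hcfg
  have hj2 : j ^ 2 = 1 := by rw [← hord]; exact pow_orderOf_eq_one j
  have hj1 : j ≠ 1 := by
    intro h
    rw [h, orderOf_one] at hord
    omega
  have hjmem : j ∈ L₁ ⊓ L₂ := by rw [hmeet]; exact Subgroup.mem_zpowers j
  have hjL₁ : j ∈ L₁ := hjmem.1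
  have hjL₂ : j ∈ L₂ := hjmem.2
  have hmeet' : ∀ g, g ∈ L₁ → g ∈ L₂ → g = 1 ∨ g = j := by
    intro g h1 h2
    have hg : g ∈ Subgroup.zpowers j := by rw [← hmeet]; exact ⟨h1, h2⟩
    obtain ⟨k, rfl⟩ := Subgroup.mem_zpowers_iff.mp hg
    rcases Int.even_or_odd' k with ⟨m, rfl | rfl⟩
    · left
      rw [zpow_mul, zpow_two, ← pow_two, hj2, one_zpow]
    · right
      rw [zpow_add, zpow_mul, zpow_two, ← pow_two, hj2, one_zpow, zpow_one, one_mul]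
  have hjr : j * r = r * j := (Subgroup.mem_centralizer_iff.mp hr) j rfl
  have hjn : j * n = n * j := (Subgroup.mem_centralizer_iff.mp hn) j rfl
  have hjY : ∀ g ∈ L₁ ⊔ L₂, j * g = g * j :=
    fun g hg => (Subgroup.mem_centralizer_iff.mp (hle hg)) j rfl
  have hL₁Y : L₁ ≤ L₁ ⊔ L₂ := le_sup_left
  have hL₂Y : L₂ ≤ L₁ ⊔ L₂ := le_sup_right
  set y₀ := n * x₀ * n⁻¹ with hy₀def
  have hy₀ : y₀ ∈ L₂ := by rw [← hswap]; exact ⟨x₀, hx₀, rfl⟩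
  have hy₀2 : y₀ ^ 2 = j := by
    have h1 : y₀ ^ 2 = n * x₀ ^ 2 * n⁻¹ := by rw [hy₀def, pow_two, pow_two]; group
    rw [h1, hx₀2, ← hjn, mul_inv_cancel_right]
  have hxy : x₀ * y₀ = y₀ * x₀ := hc x₀ hx₀ y₀ hy₀
  -- `n ∉ L₁L₂`
  have hnY : n ∉ L₁ ⊔ L₂ := by
    intro hnY
    obtain ⟨a, ha, b, hb, hab⟩ := fw_mem_sup_of_comm L₁ L₂ hc n hnY
    have hL₂L₁ : ∀ y ∈ L₂, y ∈ L₁ := by
      intro y hy
      rw [← hswap] at hy
      obtain ⟨x, hx, rfl⟩ := hy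
      have h1 : (MulAut.conj n).toMonoidHom x = a * x * a⁻¹ := by
        show n * x * n⁻¹ = a * x * a⁻¹
        rw [hab]
        calc a * b * x * (a * b)⁻¹ = a * (b * x) * b⁻¹ * a⁻¹ := by group
          _ = a * (x * b) * b⁻¹ * a⁻¹ := by rw [hc x hx b hb]
          _ = a * x * a⁻¹ := by group
      rw [h1]
      exact L₁.mul_mem (L₁.mul_mem ha hx) (L₁.inv_mem ha)
    have hL₁L₂ : ∀ x ∈ L₁, x ∈ L₂ := by
      intro x hx
      have hy' : n * x * n⁻¹ ∈ L₂ := by rw [← hswap]; exact ⟨x, hx, rfl⟩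
      have h1 : n * (n * x * n⁻¹) * n⁻¹ = x := by
        calc n * (n * x * n⁻¹) * n⁻¹ = n ^ 2 * x * (n ^ 2)⁻¹ := by rw [pow_two]; group
          _ = j * x * j⁻¹ := by rw [hn2]
          _ = x := by rw [hjY x (hL₁Y hx), mul_inv_cancel_right]
      have h2 : n * (n * x * n⁻¹) * n⁻¹ = b * (n * x * n⁻¹) * b⁻¹ := by
        have hcom := hc a ha (b * (n * x * n⁻¹) * b⁻¹)
          (L₂.mul_mem (L₂.mul_mem hb hy') (L₂.inv_mem hb))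
        calc n * (n * x * n⁻¹) * n⁻¹
            = a * (b * (n * x * n⁻¹) * b⁻¹) * a⁻¹ := by rw [hab]; group
          _ = b * (n * x * n⁻¹) * b⁻¹ * a * a⁻¹ := by rw [hcom]
          _ = b * (n * x * n⁻¹) * b⁻¹ := by group
      rw [← h1, h2]
      exact L₂.mul_mem (L₂.mul_mem hb hy') (L₂.inv_mem hb)
    have ha' : a = 1 ∨ a = j := hmeet' a ha (hL₁L₂ a ha)
    have hb' : b = 1 ∨ b = j := hmeet' b (hL₂L₁ b hb) hb
    have hn1 : n ^ 2 = 1 := by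
      rw [hab]
      rcases ha' with rfl | rfl <;> rcases hb' with rfl | rfl
      · simp
      · simpa using hj2
      · simpa using hj2
      · rw [← pow_two, hj2, one_pow]
    rw [hn2] at hn1
    exact hj1 hn1
  -- `r = n u v`
  have hw : n⁻¹ * r ∈ L₁ ⊔ L₂ := by
    have key := Subgroup.mul_mem_iff_of_index_two
      (H := (L₁ ⊔ L₂).subgroupOf (Subgroup.centralizer ({j} : Set G))) hidx
      (a := (⟨n, hn⟩ : ↥(Subgroup.centralizer ({j} : Set G)))⁻¹)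
      (b := (⟨r, hr⟩ : ↥(Subgroup.centralizer ({j} : Set G))))
    have h1 : (⟨n, hn⟩ : ↥(Subgroup.centralizer ({j} : Set G)))⁻¹ ∉
        (L₁ ⊔ L₂).subgroupOf (Subgroup.centralizer ({j} : Set G)) := by
      rw [inv_mem_iff, Subgroup.mem_subgroupOf]
      exact hnY
    have h2 : (⟨r, hr⟩ : ↥(Subgroup.centralizer ({j} : Set G))) ∉
        (L₁ ⊔ L₂).subgroupOf (Subgroup.centralizer ({j} : Set G)) := by
      rw [Subgroup.mem_subgroupOf]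
      exact hrY
    have h3 := key.mpr ⟨fun h => absurd h h1, fun h => absurd h h2⟩
    rw [Subgroup.mem_subgroupOf] at h3
    exact h3
  obtain ⟨u, hu, v, hv, hw_eq⟩ := fw_mem_sup_of_comm L₁ L₂ hc (n⁻¹ * r) hw
  have hr_eq : r = n * (u * v) := by rw [← hw_eq, mul_inv_cancel_left]
  -- conjugates
  have hnx : n⁻¹ * x₀ * n = y₀ := by
    calc n⁻¹ * x₀ * n = (n ^ 2)⁻¹ * (n * x₀ * n⁻¹) * n ^ 2 := by rw [pow_two]; group
      _ = j⁻¹ * y₀ * j := by rw [hn2]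
      _ = y₀ := by rw [mul_assoc, ← hjY y₀ (hL₂Y hy₀), inv_mul_cancel_left]
  have hny : n⁻¹ * y₀ * n = x₀ := by rw [hy₀def]; group
  have hX' : v⁻¹ * y₀ * v ∈ L₂ := L₂.mul_mem (L₂.mul_mem (L₂.inv_mem hv) hy₀) hv
  have hY' : u⁻¹ * x₀ * u ∈ L₁ := L₁.mul_mem (L₁.mul_mem (L₁.inv_mem hu) hx₀) hu
  have hA : r⁻¹ * x₀ * r = v⁻¹ * y₀ * v := by
    have huy : u * y₀ = y₀ * u := hc u hu y₀ hy₀
    calc r⁻¹ * x₀ * r = v⁻¹ * u⁻¹ * (n⁻¹ * x₀ * n) * u * v := by rw [hr_eq]; group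
      _ = v⁻¹ * u⁻¹ * (y₀ * u) * v := by rw [hnx]; group
      _ = v⁻¹ * u⁻¹ * (u * y₀) * v := by rw [huy]
      _ = v⁻¹ * y₀ * v := by group
  have hB : r⁻¹ * y₀ * r = u⁻¹ * x₀ * u := by
    have hvc : (u⁻¹ * x₀ * u) * v = v * (u⁻¹ * x₀ * u) := hc _ hY' v hv
    calc r⁻¹ * y₀ * r = v⁻¹ * (u⁻¹ * (n⁻¹ * y₀ * n) * u * v) := by rw [hr_eq]; group
      _ = v⁻¹ * ((u⁻¹ * x₀ * u) * v) := by rw [hny]
      _ = v⁻¹ * (v * (u⁻¹ * x₀ * u)) := by rw [hvc]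
      _ = u⁻¹ * x₀ * u := by group
  have hconj : (v⁻¹ * y₀ * v) * (u⁻¹ * x₀ * u) = x₀ * y₀ := by
    have h1 : r⁻¹ * (x₀ * y₀) * r = x₀ * y₀ := by
      rw [mul_assoc, ← hcomm, inv_mul_cancel_left]
    calc (v⁻¹ * y₀ * v) * (u⁻¹ * x₀ * u) = (r⁻¹ * x₀ * r) * (r⁻¹ * y₀ * r) := by rw [hA, hB]
      _ = r⁻¹ * (x₀ * y₀) * r := by group
      _ = x₀ * y₀ := h1
  -- δ
  have hXY : (v⁻¹ * y₀ * v) * (u⁻¹ * x₀ * u) = (u⁻¹ * x₀ * u) * (v⁻¹ * y₀ * v) :=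
    (hc _ hY' _ hX').symm
  have hδeq : (u⁻¹ * x₀ * u)⁻¹ * x₀ = (v⁻¹ * y₀ * v) * y₀⁻¹ := by
    have h1 : (u⁻¹ * x₀ * u) * (v⁻¹ * y₀ * v) = x₀ * y₀ := by rw [← hXY]; exact hconj
    calc (u⁻¹ * x₀ * u)⁻¹ * x₀ = (u⁻¹ * x₀ * u)⁻¹ * (x₀ * y₀) * y₀⁻¹ := by group
      _ = (u⁻¹ * x₀ * u)⁻¹ * ((u⁻¹ * x₀ * u) * (v⁻¹ * y₀ * v)) * y₀⁻¹ := by rw [h1]
      _ = (v⁻¹ * y₀ * v) * y₀⁻¹ := by group
  have hδ1 : (v⁻¹ * y₀ * v) * y₀⁻¹ ∈ L₁ := by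
    rw [← hδeq]
    exact L₁.mul_mem (L₁.inv_mem hY') hx₀
  have hδ2 : (v⁻¹ * y₀ * v) * y₀⁻¹ ∈ L₂ := L₂.mul_mem hX' (L₂.inv_mem hy₀)
  have hsq : (r * x₀) ^ 2 = x₀ * y₀ * ((v⁻¹ * y₀ * v) * y₀⁻¹) * y₀ * x₀ := by
    calc (r * x₀) ^ 2 = r ^ 2 * (r⁻¹ * x₀ * r) * x₀ := by rw [pow_two, pow_two]; group
      _ = x₀ * y₀ * (v⁻¹ * y₀ * v) * x₀ := by rw [hr2, hA]
      _ = x₀ * y₀ * ((v⁻¹ * y₀ * v) * y₀⁻¹) * y₀ * x₀ := by group
  have hyyx : x₀ * y₀ * y₀ * x₀ = 1 := by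
    calc x₀ * y₀ * y₀ * x₀ = x₀ * y₀ ^ 2 * x₀ := by rw [pow_two]; group
      _ = x₀ * j * x₀ := by rw [hy₀2]
      _ = j * x₀ * x₀ := by rw [hjY x₀ (hL₁Y hx₀)]
      _ = j * x₀ ^ 2 := by rw [pow_two, mul_assoc]
      _ = 1 := by rw [hx₀2, ← pow_two, hj2]
  have hx₀C : x₀ ∈ Subgroup.centralizer ({j} : Set G) := hle (hL₁Y hx₀)
  rcases hmeet' _ hδ1 hδ2 with hδ | hδ
  · -- δ = 1 : impossible
    exfalso
    have hs2 : (r * x₀) ^ 2 = 1 := by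
      rw [hsq, hδ, mul_one, hyyx]
    have hsC : r * x₀ ∈ Subgroup.centralizer ({j} : Set G) := Subgroup.mul_mem _ hr hx₀C
    have hs1 : r * x₀ ≠ 1 := by
      intro h
      apply hrY
      have : r = x₀⁻¹ := eq_inv_of_mul_eq_one_left h
      rw [this]
      exact hL₁Y (L₁.inv_mem hx₀)
    have hsj : r * x₀ ≠ j := by
      intro h
      apply hrY
      have : r = j * x₀⁻¹ := by rw [← h, mul_inv_cancel_right]
      rw [this]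
      exact hL₁Y (L₁.mul_mem hjL₁ (L₁.inv_mem hx₀))
    obtain ⟨x, hx, y, hy, hs, -, -⟩ := hinv (r * x₀) hsC hs2 hs1 hsj
    apply hrY
    have : r = x * y * x₀⁻¹ := by rw [← hs, mul_inv_cancel_right]
    rw [this]
    exact Subgroup.mul_mem _ (Subgroup.mul_mem _ (hL₁Y hx) (hL₂Y hy)) (hL₁Y (L₁.inv_mem hx₀))
  · constructor
    · rw [hsq, hδ]
      calc x₀ * y₀ * j * y₀ * x₀ = x₀ * (y₀ * j) * y₀ * x₀ := by group
        _ = x₀ * (j * y₀) * y₀ * x₀ := by rw [hjY y₀ (hL₂Y hy₀)]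
        _ = (x₀ * j) * y₀ * y₀ * x₀ := by group
        _ = (j * x₀) * y₀ * y₀ * x₀ := by rw [hjY x₀ (hL₁Y hx₀)]
        _ = j * (x₀ * y₀ * y₀ * x₀) := by group
        _ = j := by rw [hyyx, mul_one]
    · intro hrn
      have hr' : r = n * x₀⁻¹ := by rw [← hrn, mul_inv_cancel_right]
      have h1 : r ^ 2 = j * y₀⁻¹ * x₀⁻¹ := by
        calc r ^ 2 = n ^ 2 * (n⁻¹ * x₀ * n)⁻¹ * x₀⁻¹ := by rw [hr', pow_two, pow_two]; group
          _ = j * y₀⁻¹ * x₀⁻¹ := by rw [hn2, hnx]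
      rw [hr2] at h1
      -- x₀ * y₀ = j * y₀⁻¹ * x₀⁻¹
      have h2 : j = x₀ * y₀ * x₀ * y₀ := by
        calc j = j * y₀⁻¹ * x₀⁻¹ * x₀ * y₀ := by group
          _ = x₀ * y₀ * x₀ * y₀ := by rw [← h1]
      have h3 : x₀ * y₀ * x₀ * y₀ = 1 := by
        calc x₀ * y₀ * x₀ * y₀ = x₀ * (y₀ * x₀) * y₀ := by group
          _ = x₀ * (x₀ * y₀) * y₀ := by rw [hxy]
          _ = x₀ ^ 2 * y₀ ^ 2 := by rw [pow_two, pow_two]; group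
          _ = 1 := by rw [hx₀2, hy₀2, ← pow_two, hj2]
      exact hj1 (h2.trans h3)

end Cfsg.Agent.Lib.Helper77.FW
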